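import Cfsg.Agent.H614.CycSum
import Cfsg.Agent.H439.CC.Defs
import Cfsg.Agent.H617.EqD.CoL

/-!
# Newton's identity for averages over Young subgroups: the recursion (helper549, S4884, block D)

`ZC n f = ∑_{ν ⊢ n} f ν / z_ν` (complex valued); `newton` and `newton_list` : for a functional `E n K f` with the
splitting property of the averages over the Young subgroups, `∑_K coL ds K * E ds.sum K f = f ds`.
-/

set_option autoImplicit false
set_option linter.unusedSectionVars false
set_option linter.unusedVariables false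

namespace Cfsg.Agent.H549.NW

open Finset Cfsg.Agent.H614 Cfsg.Agent.H439.CC

/-- The average over the partitions of `n`. -/
noncomputable def ZC (n : ℕ) (f : Multiset ℕ → ℂ) : ℂ := ∑ ν : n.Partition, f ν.parts / zz ν.parts

theorem ZC_congr {n : ℕ} {f g : Multiset ℕ → ℂ}
    (h : ∀ s : Multiset ℕ, s.sum = n → (∀ i ∈ s, 0 < i) → f s = g s) : ZC n f = ZC n g := by
  unfold ZC
  refine Finset.sum_congr rfl fun ν _ => ?_
  rw [h ν.parts ν.parts_sum (fun i hi => ν.parts_pos hi)]

theorem ZC_smul (n : ℕ) (c : ℂ) (f : Multiset ℕ → ℂ) : ZC n (fun s => c * f s) = c * ZC n f := by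
  unfold ZC
  rw [Finset.mul_sum]
  exact Finset.sum_congr rfl fun ν _ => by ring

theorem ZC_finsum {ι : Type*} (n : ℕ) (t : Finset ι) (f : ι → Multiset ℕ → ℂ) :
    ZC n (fun s => ∑ i ∈ t, f i s) = ∑ i ∈ t, ZC n (f i) := by
  unfold ZC
  rw [Finset.sum_comm]
  exact Finset.sum_congr rfl fun ν _ => by rw [Finset.sum_div]

theorem ZC_zero_eq (f : Multiset ℕ → ℂ) : ZC 0 f = f 0 := by
  unfold ZC
  have hu : (univ : Finset (Nat.Partition 0)) = {default} := by
    ext x; simp [Subsingleton.elim x default]
  have hp : (default : Nat.Partition 0).parts = 0 := by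
    have h := (default : Nat.Partition 0).parts_sum
    by_contra hne
    obtain ⟨a, ha⟩ := Multiset.exists_mem_of_ne_zero hne
    have h1 := (default : Nat.Partition 0).parts_pos ha
    have h2 := Multiset.le_sum_of_mem ha
    omega
  rw [hu, Finset.sum_singleton, hp]
  simp [zz]

/-- Marking a part equal to `r`. -/
theorem ZC_mark {n r : ℕ} (hr : 0 < r) (hrn : r ≤ n) (f : Multiset ℕ → ℂ) :
    ZC n (fun s => (r * s.count r : ℕ) * f s) = ZC (n - r) (fun s => f (r ::ₘ s)) := by
  unfold ZC
  rw [← Finset.sum_filter_of_ne (p := fun ν : n.Partition => r ∈ ν.parts)]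
  swap
  · intro ν _ h
    by_contra hn
    beta_reduce at h
    rw [Multiset.count_eq_zero.mpr hn] at h
    simp at h
  refine Finset.sum_bij' (i := fun ν hν => (⟨ν.parts.erase r, ?_, ?_⟩ : (n - r).Partition))
    (j := fun ν _ => (⟨r ::ₘ ν.parts, ?_, ?_⟩ : n.Partition)) ?_ ?_ ?_ ?_ ?_
  · intro i hi
    exact ν.parts_pos (Multiset.mem_of_mem_erase hi)
  · have h1 : r ∈ ν.parts := (Finset.mem_filter.mp hν).2
    have h2 := Multiset.cons_erase h1
    have h3 := ν.parts_sum
    rw [← h2, Multiset.sum_cons] at h3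
    omega
  · intro i hi
    rcases Multiset.mem_cons.mp hi with rfl | h
    · exact hr
    · exact ν.parts_pos h
  · rw [Multiset.sum_cons, ν.parts_sum]; omega
  · intro ν _; simp
  · intro ν _; simp
  · intro ν hν
    have h1 : r ∈ ν.parts := (Finset.mem_filter.mp hν).2
    apply Nat.Partition.ext
    exact Multiset.cons_erase h1
  · intro ν _
    apply Nat.Partition.ext
    simp
  · intro ν hν
    have h1 : r ∈ ν.parts := (Finset.mem_filter.mp hν).2
    obtain ⟨s, hs⟩ : ∃ s, s = ν.parts.erase r := ⟨_, rfl⟩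
    have h2 : ν.parts = r ::ₘ s := by rw [hs]; exact (Multiset.cons_erase h1).symm
    simp only
    rw [← hs, h2, Multiset.count_cons_self, zz_cons]
    have h3 : (zz s : ℂ) ≠ 0 := by
      have : 0 < zz s := zz_pos fun i hi => ν.parts_pos (by rw [h2]; exact Multiset.mem_cons_of_mem hi)
      exact_mod_cast this.ne'
    have h4 : (r : ℂ) ≠ 0 := by exact_mod_cast hr.ne'
    have h5 : ((s.count r : ℂ) + 1) ≠ 0 := by exact_mod_cast Nat.succ_ne_zero (s.count r)
    push_cast
    field_simp

theorem ZC_rec (n : ℕ) (f : Multiset ℕ → ℂ) :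
    n * ZC n f = ∑ r ∈ Finset.Icc 1 n, ZC (n - r) (fun s => f (r ::ₘ s)) := by
  rw [← ZC_smul, ZC_congr (g := fun s => ∑ r ∈ Finset.Icc 1 n, ((r * s.count r : ℕ) : ℂ) * f s), ZC_finsum]
  · refine Finset.sum_congr rfl fun r hr => ?_
    rw [Finset.mem_Icc] at hr
    exact ZC_mark hr.1 hr.2 f
  · intro s hs hpos
    have h1 := sum_eq_sum_count hs hpos (fun _ => True)
    simp only [Finset.filter_true, Multiset.filter_true] at h1
    rw [hs] at h1
    have h2 : (n : ℂ) = ((∑ x ∈ Icc 1 n, x * Multiset.count x s : ℕ) : ℂ) := by rw [← h1]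
    rw [← Finset.sum_mul, h2]
    push_cast
    rfl

/-! ### Splitting of sums over subsets -/

theorem sum_powerset_max {R : Type*} [AddCommGroup R] (g : Finset ℕ → R) (m : ℕ) :
    ∑ K ∈ (Icc 1 m).powerset, g K = g ∅ + ∑ k ∈ Icc 1 m, ∑ K ∈ (Icc 1 k).powerset, if k ∈ K then g K else 0 := by
  induction m with
  | zero => simp
  | succ m ih =>
    rw [Finset.sum_Icc_succ_top (by omega), ← add_assoc, ← ih,
      ← Finset.sum_filter_add_sum_filter_not _ (fun K => m + 1 ∈ K), add_comm]
    congr 1
    · refine Finset.sum_congr ?_ fun _ _ => rfl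
      ext K
      rw [Finset.mem_filter, Finset.mem_powerset, Finset.mem_powerset]
      constructor
      · rintro ⟨h1, h2⟩ x hx
        have h3 := Finset.mem_Icc.1 (h1 hx)
        rw [Finset.mem_Icc]
        have : x ≠ m + 1 := fun h => h2 (h ▸ hx)
        omega
      · intro h1
        refine ⟨fun x hx => ?_, fun h => ?_⟩
        · have h3 := Finset.mem_Icc.1 (h1 hx)
          rw [Finset.mem_Icc]
          omega
        · have h3 := Finset.mem_Icc.1 (h1 h)
          omega
    · rw [Finset.sum_filter]

/-- the part of `K` above `k`, shifted -/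
def shift (k : ℕ) (K : Finset ℕ) : Finset ℕ := (K.filter fun x => k < x).image fun x => x - k

theorem mem_shift {k x : ℕ} {K : Finset ℕ} : x ∈ shift k K ↔ 0 < x ∧ x + k ∈ K := by
  unfold shift
  rw [Finset.mem_image]
  constructor
  · rintro ⟨y, hy, rfl⟩
    rw [Finset.mem_filter] at hy
    refine ⟨by omega, ?_⟩
    rw [Nat.sub_add_cancel hy.2.le]
    exact hy.1
  · rintro ⟨h1, h2⟩
    exact ⟨x + k, Finset.mem_filter.2 ⟨h2, by omega⟩, by omega⟩

theorem sum_powerset_add {R : Type*} [AddCommMonoid R] (G : Finset ℕ → R) (k m : ℕ) :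
    ∑ K ∈ (Icc 1 (k + m)).powerset, G K =
      ∑ K1 ∈ (Icc 1 k).powerset, ∑ K2 ∈ (Icc 1 m).powerset, G (K1 ∪ K2.image (fun x => x + k)) := by
  rw [← Finset.sum_product']
  refine (Finset.sum_bij' (fun p _ => p.1 ∪ p.2.image (fun x => x + k))
    (fun K _ => (K.filter (fun x => x ≤ k), shift k K)) ?_ ?_ ?_ ?_ ?_).symm
  · rintro ⟨K1, K2⟩ h
    rw [Finset.mem_product, Finset.mem_powerset, Finset.mem_powerset] at h
    rw [Finset.mem_powerset]
    intro x hx
    rw [Finset.mem_union, Finset.mem_image] at hx
    rw [Finset.mem_Icc]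
    rcases hx with hx | ⟨y, hy, rfl⟩
    · have := Finset.mem_Icc.1 (h.1 hx)
      omega
    · have := Finset.mem_Icc.1 (h.2 hy)
      omega
  · intro K h
    rw [Finset.mem_powerset] at h
    rw [Finset.mem_product, Finset.mem_powerset, Finset.mem_powerset]
    constructor
    · intro x hx
      rw [Finset.mem_filter] at hx
      have := Finset.mem_Icc.1 (h hx.1)
      rw [Finset.mem_Icc]
      omega
    · intro x hx
      rw [mem_shift] at hx
      have := Finset.mem_Icc.1 (h hx.2)
      rw [Finset.mem_Icc]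
      omega
  · rintro ⟨K1, K2⟩ h
    rw [Finset.mem_product, Finset.mem_powerset, Finset.mem_powerset] at h
    refine Prod.ext ?_ ?_
    · ext x
      simp only [Finset.mem_filter, Finset.mem_union, Finset.mem_image]
      constructor
      · rintro ⟨h1 | ⟨y, hy, rfl⟩, h2⟩
        · exact h1
        · have := Finset.mem_Icc.1 (h.2 hy)
          omega
      · intro h1
        have := Finset.mem_Icc.1 (h.1 h1)
        exact ⟨Or.inl h1, this.2⟩
    · ext x
      rw [mem_shift, Finset.mem_union, Finset.mem_image]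
      constructor
      · rintro ⟨h1, h2 | ⟨y, hy, hyx⟩⟩
        · have := Finset.mem_Icc.1 (h.1 h2)
          omega
        · rwa [show x = y by omega]
      · intro h1
        have := Finset.mem_Icc.1 (h.2 h1)
        exact ⟨by omega, Or.inr ⟨x, h1, rfl⟩⟩
  · intro K h
    rw [Finset.mem_powerset] at h
    ext x
    simp only [Finset.mem_filter, Finset.mem_union, Finset.mem_image, mem_shift]
    constructor
    · rintro (⟨h1, -⟩ | ⟨y, ⟨-, hy⟩, rfl⟩)
      · exact h1
      · exact hy
    · intro h1
      by_cases h2 : x ≤ k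
      · exact Or.inl ⟨h1, h2⟩
      · exact Or.inr ⟨x - k, ⟨by omega, by rwa [Nat.sub_add_cancel (by omega)]⟩, by omega⟩
  · rintro ⟨K1, K2⟩ _
    rfl

/-! ### The coefficients -/

theorem coL_nil (K : Finset ℕ) : coL [] K = if K = ∅ then 1 else 0 := rfl

theorem coL_cons (k : ℕ) (ds : List ℕ) (K : Finset ℕ) (h : k ∈ K) :
    coL (k :: ds) K = (-1) ^ ((K.filter fun x => x < k).card) * (K.min' ⟨k, h⟩ : ℤ) * coL ds (shift k K) := by
  rw [coL, dif_pos h]
  rfl

theorem coL_cons_of_notMem {k : ℕ} {ds : List ℕ} {K : Finset ℕ} (h : k ∉ K) : coL (k :: ds) K = 0 := by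
  rw [coL, dif_neg h]

/-- the coefficient of one block -/
theorem coL_single {k : ℕ} {K : Finset ℕ} (hK : K ⊆ Icc 1 k) (h : k ∈ K) :
    coL [k] K = (-1) ^ ((K.filter fun x => x < k).card) * (K.min' ⟨k, h⟩ : ℤ) := by
  rw [coL_cons k [] K h, coL_nil, if_pos, mul_one]
  rw [Finset.eq_empty_iff_forall_notMem]
  intro x hx
  rw [mem_shift] at hx
  have := Finset.mem_Icc.1 (hK hx.2)
  omega

theorem coL_union {k m : ℕ} (ds : List ℕ) {K1 K2 : Finset ℕ} (h1 : K1 ⊆ Icc 1 k) (h2 : K2 ⊆ Icc 1 m) :
    coL (k :: ds) (K1 ∪ K2.image (fun x => x + k)) = coL [k] K1 * coL ds K2 := by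
  have hk : k ∈ K1 ∪ K2.image (fun x => x + k) ↔ k ∈ K1 := by
    rw [Finset.mem_union, Finset.mem_image]
    constructor
    · rintro (h | ⟨y, hy, hyk⟩)
      · exact h
      · have := Finset.mem_Icc.1 (h2 hy)
        omega
    · exact Or.inl
  by_cases h : k ∈ K1
  · rw [coL_cons k ds _ (hk.2 h), coL_single h1 h]
    have e1 : (K1 ∪ K2.image (fun x => x + k)).filter (fun x => x < k) = K1.filter (fun x => x < k) := by
      ext x
      simp only [Finset.mem_filter, Finset.mem_union, Finset.mem_image]
      constructor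
      · rintro ⟨h3 | ⟨y, hy, rfl⟩, h4⟩
        · exact ⟨h3, h4⟩
        · omega
      · rintro ⟨h3, h4⟩
        exact ⟨Or.inl h3, h4⟩
    have e2 : (K1 ∪ K2.image (fun x => x + k)).min' ⟨k, hk.2 h⟩ = K1.min' ⟨k, h⟩ := by
      apply le_antisymm
      · exact Finset.min'_le _ _ (Finset.mem_union_left _ (Finset.min'_mem _ _))
      · refine Finset.le_min' _ _ _ fun y hy => ?_
        rw [Finset.mem_union, Finset.mem_image] at hy
        rcases hy with hy | ⟨z, hz, rfl⟩
        · exact Finset.min'_le _ _ hy
        · exact (Finset.min'_le _ _ h).trans (by omega)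
    have e3 : shift k (K1 ∪ K2.image (fun x => x + k)) = K2 := by
      ext x
      rw [mem_shift, Finset.mem_union, Finset.mem_image]
      constructor
      · rintro ⟨h3, h4 | ⟨y, hy, hyx⟩⟩
        · have := Finset.mem_Icc.1 (h1 h4)
          omega
        · rwa [show x = y by omega]
      · intro h3
        have := Finset.mem_Icc.1 (h2 h3)
        exact ⟨by omega, Or.inr ⟨x, h3, rfl⟩⟩
    rw [e1, e2, e3]
  · rw [coL_cons_of_notMem (fun h3 => h (hk.1 h3)), coL_cons_of_notMem h, zero_mul]

theorem coL_insert {k n : ℕ} (hkn : k < n) (hk : 1 ≤ k) {K : Finset ℕ} (hK : K ⊆ Icc 1 k) (h : k ∈ K) :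
    coL [n] (insert n K) = - coL [k] K := by
  have h1 : insert n K ⊆ Icc 1 n := by
    intro x hx
    rw [Finset.mem_insert] at hx
    rw [Finset.mem_Icc]
    rcases hx with rfl | hx
    · omega
    · have := Finset.mem_Icc.1 (hK hx)
      omega
  rw [coL_single h1 (Finset.mem_insert_self _ _), coL_single hK h]
  have e1 : (insert n K).filter (fun x => x < n) = insert k (K.filter (fun x => x < k)) := by
    ext x
    simp only [Finset.mem_filter, Finset.mem_insert]
    constructor
    · rintro ⟨rfl | h3, h4⟩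
      · omega
      · have := Finset.mem_Icc.1 (hK h3)
        by_cases h5 : x = k
        · exact Or.inl h5
        · exact Or.inr ⟨h3, by omega⟩
    · rintro (rfl | ⟨h3, h4⟩)
      · exact ⟨Or.inr h, hkn⟩
      · exact ⟨Or.inr h3, by omega⟩
  have e2 : (insert n K).min' ⟨n, Finset.mem_insert_self _ _⟩ = K.min' ⟨k, h⟩ := by
    apply le_antisymm
    · exact Finset.min'_le _ _ (Finset.mem_insert_of_mem (Finset.min'_mem _ _))
    · refine Finset.le_min' _ _ _ fun y hy => ?_
      rw [Finset.mem_insert] at hy
      rcases hy with rfl | hy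
      · exact (Finset.min'_le _ _ h).trans hkn.le
      · exact Finset.min'_le _ _ hy
  rw [e1, e2, Finset.card_insert_of_notMem (by simp), pow_succ]
  ring

/-! ### Newton's identity -/

/-- the properties of the averages over the Young subgroups -/
structure Young (E : ℕ → Finset ℕ → (Multiset ℕ → ℂ) → ℂ) : Prop where
  /-- linearity -/
  lin : ∀ (n : ℕ) (K : Finset ℕ) {ι : Type} (t : Finset ι) (c : ι → ℂ) (f : ι → Multiset ℕ → ℂ),
    E n K (fun s => ∑ i ∈ t, c i * f i s) = ∑ i ∈ t, c i * E n K (f i)
  /-- the full symmetric group -/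
  top : ∀ (n : ℕ) (K : Finset ℕ) (f : Multiset ℕ → ℂ), (∀ x ∈ K, 0 < x → x < n → False) → E n K f = ZC n f
  /-- products -/
  split : ∀ (k m : ℕ) (K : Finset ℕ) (f : Multiset ℕ → ℂ), k ∈ K →
    E (k + m) K f = E k K (fun s => E m (shift k K) (fun t => f (s + t)))
  /-- irrelevant members -/
  congr : ∀ (n : ℕ) (K K' : Finset ℕ) (f : Multiset ℕ → ℂ), (∀ x, 0 < x → x < n → (x ∈ K ↔ x ∈ K')) → E n K f = E n K' f

section

variable {E : ℕ → Finset ℕ → (Multiset ℕ → ℂ) → ℂ} (hE : Young E)

include hE

theorem newton (n : ℕ) (hn : 1 ≤ n) (f : Multiset ℕ → ℂ) :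
    ∑ K ∈ (Icc 1 n).powerset, (coL [n] K : ℂ) * E n K f = f {n} := by
  induction n using Nat.strong_induction_on generalizing f with
  | _ n ih =>
    obtain ⟨m, rfl⟩ : ∃ m, n = m + 1 := ⟨n - 1, by omega⟩
    -- only the sets containing `m + 1` count
    have h1 : ∑ K ∈ (Icc 1 (m + 1)).powerset, (coL [m + 1] K : ℂ) * E (m + 1) K f =
        ∑ K ∈ (Icc 1 m).powerset, (coL [m + 1] (insert (m + 1) K) : ℂ) * E (m + 1) (insert (m + 1) K) f := by
      have e1 : Icc 1 (m + 1) = insert (m + 1) (Icc 1 m) := by
        ext x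
        simp only [Finset.mem_Icc, Finset.mem_insert]
        omega
      rw [e1, Finset.sum_powerset_insert (by simp)]
      rw [Finset.sum_eq_zero, zero_add]
      intro K hK
      rw [Finset.mem_powerset] at hK
      rw [coL_cons_of_notMem, Int.cast_zero, zero_mul]
      intro h
      have := Finset.mem_Icc.1 (hK h)
      omega
    rw [h1, sum_powerset_max]
    -- the first term
    have h2 : (coL [m + 1] (insert (m + 1) ∅) : ℂ) * E (m + 1) (insert (m + 1) ∅) f = ((m + 1 : ℕ) : ℂ) * ZC (m + 1) f := by
      rw [coL_single (by intro x; simp only [Finset.mem_insert, Finset.notMem_empty, or_false, Finset.mem_Icc]; omega)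
        (Finset.mem_insert_self _ _), hE.top]
      · have e2 : (insert (m + 1) (∅ : Finset ℕ)).filter (fun x => x < m + 1) = ∅ := by
          ext x
          simp only [Finset.mem_filter, Finset.mem_insert, Finset.notMem_empty, or_false, iff_false]
          omega
        have e3 : (insert (m + 1) (∅ : Finset ℕ)).min' ⟨m + 1, Finset.mem_insert_self _ _⟩ = m + 1 := by
          simp
        rw [e2, e3]
        simp
      · intro x hx h3 h4
        simp only [Finset.mem_insert, Finset.notMem_empty, or_false] at hx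
        omega
    have h3 : ∀ k ∈ Icc 1 m, (∑ K ∈ (Icc 1 k).powerset, if k ∈ K then
        (coL [m + 1] (insert (m + 1) K) : ℂ) * E (m + 1) (insert (m + 1) K) f else 0) =
        - ZC (m + 1 - k) (fun t => f (k ::ₘ t)) := by
      intro k hk
      rw [Finset.mem_Icc] at hk
      have h4 : ∀ K ∈ (Icc 1 k).powerset, (if k ∈ K then
          (coL [m + 1] (insert (m + 1) K) : ℂ) * E (m + 1) (insert (m + 1) K) f else 0) =
          - ((coL [k] K : ℂ) * E k K (fun s => ZC (m + 1 - k) (fun t => f (s + t)))) := by
        intro K hK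
        rw [Finset.mem_powerset] at hK
        split_ifs with hkK
        · rw [coL_insert (by omega) hk.1 hK hkK]
          obtain ⟨d, hd⟩ : ∃ d, m + 1 = k + d := ⟨m + 1 - k, by omega⟩
          have hd' : m + 1 - k = d := by omega
          rw [hd', hd, hE.split k d _ f (Finset.mem_insert_of_mem hkK)]
          have e4 : ∀ g : Multiset ℕ → ℂ, E d (shift k (insert (k + d) K)) g = ZC d g := by
            intro g
            apply hE.top
            intro x hx h5 h6
            rw [mem_shift, Finset.mem_insert] at hx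
            rcases hx.2 with h7 | h7
            · omega
            · have := Finset.mem_Icc.1 (hK h7)
              omega
          simp only [e4]
          rw [hE.congr k (insert (k + d) K) K]
          · push_cast
            ring
          · intro x h5 h6
            rw [Finset.mem_insert]
            constructor
            · rintro (h7 | h7)
              · omega
              · exact h7
            · exact Or.inr
        · rw [coL_cons_of_notMem hkK, Int.cast_zero, zero_mul, neg_zero]
      rw [Finset.sum_congr rfl h4, Finset.sum_neg_distrib, ih k (by omega) hk.1]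
      rfl
    rw [h2, Finset.sum_congr rfl h3, Finset.sum_neg_distrib, ZC_rec, Finset.sum_Icc_succ_top (by omega), Nat.sub_self,
      ZC_zero_eq]
    simp

theorem newton_list : ∀ (ds : List ℕ), (∀ d ∈ ds, 1 ≤ d) → ∀ f : Multiset ℕ → ℂ,
    ∑ K ∈ (Icc 1 ds.sum).powerset, (coL ds K : ℂ) * E ds.sum K f = f (ds : Multiset ℕ) := by
  intro ds
  induction ds with
  | nil =>
    intro _ f
    rw [List.sum_nil]
    have e1 : (Icc 1 0 : Finset ℕ) = ∅ := by simp
    rw [e1, Finset.powerset_empty, Finset.sum_singleton, coL_nil, if_pos rfl, Int.cast_one, one_mul, hE.top, ZC_zero_eq]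
    · rfl
    · intro x hx
      simp at hx
  | cons k ds ih =>
    intro hd f
    have hk := hd k List.mem_cons_self
    rw [List.sum_cons, sum_powerset_add]
    have h1 : ∀ K1 ∈ (Icc 1 k).powerset, (∑ K2 ∈ (Icc 1 ds.sum).powerset,
        (coL (k :: ds) (K1 ∪ K2.image (fun x => x + k)) : ℂ) * E (k + ds.sum) (K1 ∪ K2.image (fun x => x + k)) f) =
        (coL [k] K1 : ℂ) * E k K1 (fun s => f (s + (ds : Multiset ℕ))) := by
      intro K1 hK1
      rw [Finset.mem_powerset] at hK1
      by_cases hkK : k ∈ K1
      · have h2 : ∀ K2 ∈ (Icc 1 ds.sum).powerset,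
            (coL (k :: ds) (K1 ∪ K2.image (fun x => x + k)) : ℂ) * E (k + ds.sum) (K1 ∪ K2.image (fun x => x + k)) f =
            (coL [k] K1 : ℂ) * ((coL ds K2 : ℂ) * E k K1 (fun s => E ds.sum K2 (fun t => f (s + t)))) := by
          intro K2 hK2
          rw [Finset.mem_powerset] at hK2
          rw [coL_union ds hK1 hK2, hE.split k ds.sum _ f (Finset.mem_union_left _ hkK)]
          have e1 : shift k (K1 ∪ K2.image (fun x => x + k)) = K2 := by
            ext x
            rw [mem_shift, Finset.mem_union, Finset.mem_image]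
            constructor
            · rintro ⟨h3, h4 | ⟨y, hy, hyx⟩⟩
              · have := Finset.mem_Icc.1 (hK1 h4)
                omega
              · rwa [show x = y by omega]
            · intro h3
              have := Finset.mem_Icc.1 (hK2 h3)
              exact ⟨by omega, Or.inr ⟨x, h3, rfl⟩⟩
          rw [e1, hE.congr k (K1 ∪ K2.image (fun x => x + k)) K1]
          · push_cast
            ring
          · intro x h5 h6
            rw [Finset.mem_union, Finset.mem_image]
            constructor
            · rintro (h7 | ⟨y, hy, rfl⟩)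
              · exact h7
              · omega
            · exact Or.inl
        rw [Finset.sum_congr rfl h2, ← Finset.mul_sum, ← hE.lin]
        congr 2
        funext s
        exact ih (fun d hd' => hd d (List.mem_cons_of_mem _ hd')) _
      · rw [coL_cons_of_notMem hkK, Int.cast_zero, zero_mul]
        refine Finset.sum_eq_zero fun K2 hK2 => ?_
        rw [Finset.mem_powerset] at hK2
        rw [coL_union ds hK1 hK2, coL_cons_of_notMem hkK, zero_mul, Int.cast_zero, zero_mul]
    rw [Finset.sum_congr rfl h1, newton hE k hk]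
    rw [Multiset.singleton_add, Multiset.cons_coe]

end

end Cfsg.Agent.H549.NW
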