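import Cfsg.Agent.H549.NW.Fun
import Cfsg.Agent.H614.Chars

/-!
# Newton's identity for averages over Young subgroups: the symmetric groups (helper549, S4884, block D)

`YY n K` : the Young subgroup of `Perm (Fin n)`, generated by the transpositions `(i, i + 1)`, `i + 1 ∉ K`;
`newton_perm` : `∑_K coL ds K * mu (YY n K) ψ = ψ w` for a class function `ψ` and `w` with cycle lengths `ds`.
-/

set_option autoImplicit false
set_option linter.unusedSectionVars false
set_option linter.unusedVariables false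

namespace Cfsg.Agent.H549.NW

open Finset Cfsg.Agent.H614 Cfsg.Agent.H439.CC Equiv

/-! ### Averages -/

section mu

variable {G : Type*} [Group G]

theorem mu_eq_sum [Finite G] (P : Subgroup G) [Fintype P] (χ : G → ℂ) :
    mu P χ = (Nat.card P : ℂ)⁻¹ * ∑ x : P, χ x := by
  unfold mu
  rw [finsum_eq_sum_of_fintype]

theorem mu_map {H : Type*} [Group H] {f : G →* H} (hf : Function.Injective f) (P : Subgroup G) (χ : H → ℂ) :
    mu (P.map f) χ = mu P (fun x => χ (f x)) := by
  unfold mu
  rw [Nat.card_congr (P.equivMapOfInjective f hf).toEquiv.symm]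
  congr 1
  rw [← finsum_comp_equiv (P.equivMapOfInjective f hf).toEquiv]
  rfl

theorem mu_lin [Finite G] (P : Subgroup G) {ι : Type*} (t : Finset ι) (c : ι → ℂ) (f : ι → G → ℂ) :
    mu P (fun x => ∑ i ∈ t, c i * f i x) = ∑ i ∈ t, c i * mu P (f i) := by
  have := Fintype.ofFinite P
  simp only [mu_eq_sum]
  rw [Finset.sum_comm, Finset.mul_sum]
  refine Finset.sum_congr rfl fun i _ => ?_
  rw [← Finset.mul_sum]
  ring

theorem mu_top [Fintype G] (χ : G → ℂ) : mu (⊤ : Subgroup G) χ = (Nat.card G : ℂ)⁻¹ * ∑ x : G, χ x := by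
  unfold mu
  rw [Subgroup.card_top, ← finsum_eq_sum_of_fintype, ← finsum_comp_equiv (Subgroup.topEquiv (G := G)).toEquiv]
  rfl

theorem mu_prod {H : Type*} [Group H] [Finite G] [Finite H] (A : Subgroup G) (B : Subgroup H) (F : G × H → ℂ) :
    mu (A.prod B) F = mu A (fun x => mu B (fun y => F (x, y))) := by
  have := Fintype.ofFinite A
  have := Fintype.ofFinite B
  have : Fintype (A.prod B) := Fintype.ofFinite _
  simp only [mu_eq_sum]
  rw [Nat.card_congr (A.prodEquiv B).toEquiv, Nat.card_prod, ← Finset.mul_sum, ← Fintype.sum_prod_type',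
    Fintype.sum_equiv (A.prodEquiv B).toEquiv (fun x => F x) (fun p => F (p.1, p.2)) (fun _ => rfl)]
  push_cast
  rw [mul_inv]
  ring

end mu

/-! ### Cycle types of sums -/

section ty

variable {α β : Type*} [Fintype α] [DecidableEq α] [Fintype β] [DecidableEq β]

theorem cycleType_sumCongr_one (x : Perm α) : (Perm.sumCongr x (1 : Perm β)).cycleType = x.cycleType := by
  classical
  let f : α ≃ {z : α ⊕ β // z.isLeft = true} :=
    { toFun := fun a => ⟨Sum.inl a, rfl⟩
      invFun := fun z => z.1.getLeft z.2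
      left_inv := fun a => rfl
      right_inv := fun z => Subtype.ext (Sum.inl_getLeft z.1 z.2) }
  have h : Perm.sumCongr x (1 : Perm β) = x.extendDomain f := by
    ext z
    rcases z with a | b
    · exact ((Perm.extendDomain_apply_image x f a).symm ▸ rfl)
    · rw [Perm.extendDomain_apply_not_subtype x f (by simp)]
      rfl
  rw [h, Perm.cycleType_extendDomain]

theorem cycleType_sumCongr_one' (y : Perm β) : (Perm.sumCongr (1 : Perm α) y).cycleType = y.cycleType := by
  classical
  let f : β ≃ {z : α ⊕ β // z.isRight = true} :=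
    { toFun := fun a => ⟨Sum.inr a, rfl⟩
      invFun := fun z => z.1.getRight z.2
      left_inv := fun a => rfl
      right_inv := fun z => Subtype.ext (Sum.inr_getRight z.1 z.2) }
  have h : Perm.sumCongr (1 : Perm α) y = y.extendDomain f := by
    ext z
    rcases z with a | b
    · rw [Perm.extendDomain_apply_not_subtype y f (by simp)]
      rfl
    · exact ((Perm.extendDomain_apply_image y f b).symm ▸ rfl)
  rw [h, Perm.cycleType_extendDomain]

theorem cycleType_sumCongr (x : Perm α) (y : Perm β) :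
    (Perm.sumCongr x y).cycleType = x.cycleType + y.cycleType := by
  have h1 : Perm.sumCongr x y = Perm.sumCongr x 1 * Perm.sumCongr 1 y := by
    rw [Perm.sumCongr_mul, mul_one, one_mul]
  have h2 : Perm.Disjoint (Perm.sumCongr x (1 : Perm β)) (Perm.sumCongr (1 : Perm α) y) := by
    intro z
    rcases z with a | b
    · right; rfl
    · left; rfl
  rw [h1, h2.cycleType_mul, cycleType_sumCongr_one, cycleType_sumCongr_one']

theorem ty_sumCongr (x : Perm α) (y : Perm β) : ty (Perm.sumCongr x y) = ty x + ty y := by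
  have h1 := Perm.sum_cycleType_le x
  have h2 := Perm.sum_cycleType_le y
  rw [ty_eq, ty_eq x, ty_eq y, cycleType_sumCongr, Multiset.sum_add, Fintype.card_sum,
    show Fintype.card α + Fintype.card β - (x.cycleType.sum + y.cycleType.sum) =
      (Fintype.card α - x.cycleType.sum) + (Fintype.card β - y.cycleType.sum) by omega, Multiset.replicate_add]
  abel

theorem ty_permCongr (e : α ≃ β) (x : Perm α) : ty (e.permCongr x) = ty x := by
  classical
  have h : (e.permCongr x).cycleType = x.cycleType := by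
    let f : α ≃ {z : β // True} := e.trans (Equiv.Set.univ β).symm
    have h1 : e.permCongr x = x.extendDomain f := by
      ext z
      obtain ⟨a, rfl⟩ := e.surjective z
      have h2 := Perm.extendDomain_apply_image x f a
      have h3 : ((f a : {z : β // True}) : β) = e a := rfl
      have h4 : ((f (x a) : {z : β // True}) : β) = e (x a) := rfl
      rw [h3, h4] at h2
      rw [h2, Equiv.permCongr_apply, Equiv.symm_apply_apply]
    rw [h1, Perm.cycleType_extendDomain]
  rw [ty_eq, ty_eq x, h, Fintype.card_congr e]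

end ty

/-! ### Young subgroups -/

/-- the adjacent transpositions away from `K` -/
def gens (n : ℕ) (K : Finset ℕ) : Set (Perm (Fin n)) :=
  {σ | ∃ (i : ℕ) (h : i + 1 < n), i + 1 ∉ K ∧ σ = swap ⟨i, Nat.lt_of_succ_lt h⟩ ⟨i + 1, h⟩}

/-- the Young subgroup -/
def YY (n : ℕ) (K : Finset ℕ) : Subgroup (Perm (Fin n)) := Subgroup.closure (gens n K)

theorem YY_congr {n : ℕ} {K K' : Finset ℕ} (h : ∀ x, 0 < x → x < n → (x ∈ K ↔ x ∈ K')) : YY n K = YY n K' := by
  unfold YY
  congr 1
  ext σ
  constructor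
  · rintro ⟨i, hi, h1, h2⟩
    exact ⟨i, hi, fun h3 => h1 ((h (i + 1) (by omega) hi).2 h3), h2⟩
  · rintro ⟨i, hi, h1, h2⟩
    exact ⟨i, hi, fun h3 => h1 ((h (i + 1) (by omega) hi).1 h3), h2⟩

theorem YY_top {n : ℕ} {K : Finset ℕ} (h : ∀ x ∈ K, 0 < x → x < n → False) : YY n K = ⊤ := by
  rcases n with _ | n
  · exact Subsingleton.elim _ _
  · apply Subgroup.closure_eq_top_of_mclosure_eq_top
    rw [eq_top_iff, ← Perm.mclosure_swap_castSucc_succ, Submonoid.closure_le]
    rintro _ ⟨i, rfl⟩
    refine Submonoid.subset_closure ⟨i, by have := i.2; omega, fun h1 => h _ h1 (by omega) (by have := i.2; omega), rfl⟩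

/-- the embedding of `Perm (Fin k) × Perm (Fin m)` -/
def JJ (k m : ℕ) : Perm (Fin k) × Perm (Fin m) →* Perm (Fin (k + m)) :=
  (finSumFinEquiv.permCongrHom : Perm (Fin k ⊕ Fin m) ≃* Perm (Fin (k + m))).toMonoidHom.comp
    (Perm.sumCongrHom (Fin k) (Fin m))

theorem JJ_apply (k m : ℕ) (p : Perm (Fin k) × Perm (Fin m)) :
    JJ k m p = finSumFinEquiv.permCongr (Perm.sumCongr p.1 p.2) := rfl

theorem JJ_injective (k m : ℕ) : Function.Injective (JJ k m) :=
  (finSumFinEquiv.permCongrHom : Perm (Fin k ⊕ Fin m) ≃* Perm (Fin (k + m))).injective.comp Perm.sumCongrHom_injective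

theorem ty_JJ (k m : ℕ) (x : Perm (Fin k)) (y : Perm (Fin m)) : ty (JJ k m (x, y)) = ty x + ty y := by
  rw [JJ_apply, ty_permCongr, ty_sumCongr]

theorem JJ_left (k m : ℕ) (i j : Fin k) : JJ k m (swap i j, 1) = swap (Fin.castAdd m i) (Fin.castAdd m j) := by
  rw [JJ_apply]
  show finSumFinEquiv.permCongr (Perm.sumCongr (swap i j) (1 : Perm (Fin m))) = _
  rw [Perm.sumCongr_swap_one]
  exact Equiv.symm_trans_swap_trans _ _ _

theorem JJ_right (k m : ℕ) (i j : Fin m) : JJ k m (1, swap i j) = swap (Fin.natAdd k i) (Fin.natAdd k j) := by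
  rw [JJ_apply]
  show finSumFinEquiv.permCongr (Perm.sumCongr (1 : Perm (Fin k)) (swap i j)) = _
  rw [Perm.sumCongr_one_swap]
  exact Equiv.symm_trans_swap_trans _ _ _

theorem YY_split {k m : ℕ} {K : Finset ℕ} (hk : k ∈ K) :
    YY (k + m) K = ((YY k K).prod (YY m (shift k K))).map (JJ k m) := by
  apply le_antisymm
  · unfold YY
    rw [Subgroup.closure_le]
    rintro _ ⟨i, hi, h1, rfl⟩
    have hik : i + 1 ≠ k := fun h => h1 (h ▸ hk)
    rcases Nat.lt_or_ge (i + 1) k with h2 | h2
    · refine ⟨(swap ⟨i, by omega⟩ ⟨i + 1, h2⟩, 1), ?_, ?_⟩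
      · refine Subgroup.mem_prod.2 ⟨Subgroup.subset_closure ⟨i, h2, h1, rfl⟩, Subgroup.one_mem _⟩
      · rw [JJ_left]
        rfl
    · obtain ⟨j, rfl⟩ : ∃ j, i = k + j := ⟨i - k, by omega⟩
      refine ⟨(1, swap ⟨j, by omega⟩ ⟨j + 1, by omega⟩), ?_, ?_⟩
      · refine Subgroup.mem_prod.2 ⟨Subgroup.one_mem _, Subgroup.subset_closure ⟨j, by omega, ?_, rfl⟩⟩
        rw [mem_shift]
        rintro ⟨-, h3⟩
        apply h1
        rwa [show k + j + 1 = j + 1 + k by omega]
      · rw [JJ_right]
        rfl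
  · rintro _ ⟨⟨x, y⟩, hxy, rfl⟩
    obtain ⟨hx, hy⟩ := Subgroup.mem_prod.1 hxy
    have h1 : YY k K ≤ (YY (k + m) K).comap ((JJ k m).comp (MonoidHom.inl _ _)) := by
      rw [YY, Subgroup.closure_le]
      rintro _ ⟨i, hi, h1, rfl⟩
      show JJ k m (swap _ _, 1) ∈ YY (k + m) K
      rw [JJ_left]
      exact Subgroup.subset_closure ⟨i, by omega, h1, rfl⟩
    have h2 : YY m (shift k K) ≤ (YY (k + m) K).comap ((JJ k m).comp (MonoidHom.inr _ _)) := by
      rw [YY, Subgroup.closure_le]
      rintro _ ⟨i, hi, h1, rfl⟩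
      show JJ k m (1, swap _ _) ∈ YY (k + m) K
      rw [JJ_right]
      refine Subgroup.subset_closure ⟨k + i, by omega, fun h3 => h1 ?_, rfl⟩
      rw [mem_shift]
      exact ⟨by omega, by rwa [show i + 1 + k = k + i + 1 by omega]⟩
    have h3 : ((x, y) : Perm (Fin k) × Perm (Fin m)) = (x, 1) * (1, y) := by
      rw [Prod.mk_mul_mk, mul_one, one_mul]
    rw [h3, map_mul]
    exact mul_mem (h1 hx) (h2 hy)

theorem sum_permC {α : Type*} [Fintype α] [DecidableEq α] (f : Multiset ℕ → ℂ) :
    ∑ g : Perm α, f (ty g) = (Fintype.card α).factorial * ZC (Fintype.card α) f := by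
  rw [← Finset.sum_fiberwise (s := univ) (g := fun g : Perm α => g.partition)]
  unfold ZC
  rw [Finset.mul_sum]
  refine Finset.sum_congr rfl fun ν _ => ?_
  rw [Finset.sum_congr rfl (g := fun _ => f ν.parts), Finset.sum_const, ← card_partition_eq ν]
  · have h3 : (zz ν.parts : ℂ) ≠ 0 := by
      have : 0 < zz ν.parts := zz_pos fun i hi => ν.parts_pos hi
      exact_mod_cast this.ne'
    push_cast
    rw [nsmul_eq_mul]
    field_simp
  · intro g hg
    rw [ty, (Finset.mem_filter.mp hg).2]

theorem young : Young (fun n K f => mu (YY n K) (fun x => f (ty x))) where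
  lin n K ι t c f := mu_lin (YY n K) t c (fun i x => f i (ty x))
  top n K f h := by
    rw [YY_top h, mu_top, sum_permC, Fintype.card_fin, Nat.card_eq_fintype_card, Fintype.card_perm, Fintype.card_fin,
      ← mul_assoc, inv_mul_cancel₀, one_mul]
    exact_mod_cast Nat.factorial_ne_zero n
  split k m K f hk := by
    simp only
    rw [YY_split hk, mu_map (JJ_injective k m), mu_prod]
    simp only [ty_JJ]
  congr n K K' f h := by
    rw [YY_congr h]

/-- **Newton's identity** -/
theorem newton_perm {n : ℕ} {ds : List ℕ} (hds : ∀ d ∈ ds, 1 ≤ d) (hn : ds.sum = n) {ψ : Perm (Fin n) → ℂ}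
    (hψ : ∀ g h, ψ (g * h * g⁻¹) = ψ h) {w : Perm (Fin n)} (hw : ty w = (ds : Multiset ℕ)) :
    ∑ K ∈ (Icc 1 n).powerset, (coL ds K : ℂ) * mu (YY n K) ψ = ψ w := by
  classical
  subst hn
  have hty : ∀ g h : Perm (Fin ds.sum), ty g = ty h → ψ g = ψ h := by
    intro g h hgh
    obtain ⟨c, hc⟩ := isConj_iff.1 ((ty_eq_iff g h).1 hgh)
    rw [← hc, hψ]
  let f : Multiset ℕ → ℂ := fun s => if h : ∃ g : Perm (Fin ds.sum), ty g = s then ψ h.choose else 0
  have hf : ∀ g : Perm (Fin ds.sum), f (ty g) = ψ g := by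
    intro g
    have h : ∃ g' : Perm (Fin ds.sum), ty g' = ty g := ⟨g, rfl⟩
    show (if h : ∃ g' : Perm (Fin ds.sum), ty g' = ty g then ψ h.choose else 0) = ψ g
    rw [dif_pos h]
    exact hty _ _ h.choose_spec
  have h1 := newton_list young ds hds f
  rw [← hw, hf] at h1
  rw [← h1]
  refine Finset.sum_congr rfl fun K _ => ?_
  simp only [hf]

end Cfsg.Agent.H549.NW
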